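import Groth.Agent.L15.GaLaw.Poly
import Groth.Agent.L25.GaPts
import Mathlib.AlgebraicGeometry.AffineScheme
import Mathlib.CategoryTheory.Monoidal.Cartesian.Over

/-! Group laws on the affine line over a field are determined by their unit. -/

universe u

open CategoryTheory MonoidalCategory CartesianMonoidalCategory MonObj GrpObj AlgebraicGeometry

noncomputable section

namespace Groth.L15.GaLaw

variable {k : Type u} [Field k]

/-- `Spec R` over `Spec k`. -/
abbrev U (R : Type u) [CommRing R] [Algebra k R] : Over (Spec (CommRingCat.of k)) :=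
  Over.mk (Spec.map (CommRingCat.ofHom (algebraMap k R)))

/-- `Spec` of an algebra map. -/
def Um {R R' : Type u} [CommRing R] [Algebra k R] [CommRing R'] [Algebra k R'] (f : R →ₐ[k] R') :
    U (k := k) R' ⟶ U (k := k) R :=
  Over.homMk (Spec.map (CommRingCat.ofHom f.toRingHom)) (by
    change Spec.map _ ≫ Spec.map _ = Spec.map _
    rw [← Spec.map_comp, ← CommRingCat.ofHom_comp]
    congr 2
    exact RingHom.ext f.commutes)

/-- An object whose points over affine schemes are the elements of the algebras. -/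
structure LinePts (G : Over (Spec (CommRingCat.of k))) where
  pt : ∀ (R : Type u) [CommRing R] [Algebra k R], R ≃ (U (k := k) R ⟶ G)
  pt_natural : ∀ {R R' : Type u} [CommRing R] [Algebra k R] [CommRing R'] [Algebra k R']
    (f : R →ₐ[k] R') (a : R), Um f ≫ pt R a = pt R' (f a)

variable {G : Over (Spec (CommRingCat.of k))} [GrpObj G] (L : LinePts G)

/-- The law on elements. -/
def LinePts.op (R : Type u) [CommRing R] [Algebra k R] (a b : R) : R :=
  (L.pt R).symm (L.pt R a * L.pt R b)

/-- The unit as an element. -/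
def LinePts.unit : k := (L.pt k).symm 1

lemma LinePts.pt_op (R : Type u) [CommRing R] [Algebra k R] (a b : R) :
    L.pt R (L.op R a b) = L.pt R a * L.pt R b := Equiv.apply_symm_apply _ _

lemma LinePts.map_op {R R' : Type u} [CommRing R] [Algebra k R] [CommRing R'] [Algebra k R']
    (f : R →ₐ[k] R') (a b : R) : f (L.op R a b) = L.op R' (f a) (f b) := by
  apply (L.pt R').injective
  rw [← L.pt_natural, L.pt_op, L.pt_op, ← L.pt_natural, ← L.pt_natural, Hom.mul_def, Hom.mul_def,
    comp_lift_assoc]

lemma LinePts.pt_unit (R : Type u) [CommRing R] [Algebra k R] :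
    L.pt R (algebraMap k R L.unit) = 1 := by
  rw [show algebraMap k R L.unit = Algebra.ofId k R L.unit from rfl, ← L.pt_natural, LinePts.unit,
    Equiv.apply_symm_apply, Hom.one_def, Hom.one_def, ← Category.assoc, toUnit_unique (Um _ ≫ toUnit _) (toUnit _)]

open Polynomial in
theorem LinePts.op_eq (R : Type u) [CommRing R] [Algebra k R] (a b : R) :
    L.op R a b = a + b - algebraMap k R L.unit := by
  let F : Polynomial (Polynomial k) := L.op (Polynomial (Polynomial k)) X (C X)
  have hF : ∀ (S : Type u) [CommRing S] [Algebra k S] (x y : S), L.op S x y = ev F x y := by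
    intro S _ _ x y
    let ψ : Polynomial (Polynomial k) →ₐ[k] S :=
      { eval₂RingHom (aeval y : Polynomial k →ₐ[k] S).toRingHom x with
        commutes' := fun r => by
          simp [Polynomial.algebraMap_apply] }
    have h1 : ev F x y = ψ F := rfl
    rw [h1, L.map_op ψ]
    congr 1
    · change x = Polynomial.eval₂ _ x X
      rw [eval₂_X]
    · change y = Polynomial.eval₂ _ x (C X)
      rw [eval₂_C]
      exact (aeval_X y).symm
  rw [hF]
  refine Groth.L15.GaLaw.ev_eq F L.unit ?_ ?_ ?_ ?_ R a b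
  · intro S _ _ x
    rw [← hF]
    apply (L.pt S).injective
    rw [L.pt_op, L.pt_unit, _root_.one_mul]
  · intro S _ _ x
    rw [← hF]
    apply (L.pt S).injective
    rw [L.pt_op, L.pt_unit, _root_.mul_one]
  · intro S _ _ x y z
    rw [← hF, ← hF, ← hF, ← hF]
    apply (L.pt S).injective
    rw [L.pt_op, L.pt_op, L.pt_op, L.pt_op, _root_.mul_assoc]
  · intro x
    refine ⟨(L.pt k).symm (L.pt k x)⁻¹, ?_⟩
    rw [← hF]
    apply (L.pt k).injective
    rw [L.pt_op, Equiv.apply_symm_apply, mul_inv_cancel, LinePts.unit, Equiv.apply_symm_apply]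

open Groth.L25 in
/-- The points of the additive group. -/
def linePts : LinePts (Red.Ga (Spec (CommRingCat.of k))) where
  pt R := (Scheme.ΓSpecIso (CommRingCat.of R)).commRingCatIsoToRingEquiv.symm.toEquiv.trans
    (GaPts.equiv (U (k := k) R)).symm
  pt_natural := by
    intro R R' _ _ _ _ f a
    change Um f ≫ GaPts.ptOfElt ((Scheme.ΓSpecIso (CommRingCat.of R)).inv a) =
      GaPts.ptOfElt ((Scheme.ΓSpecIso (CommRingCat.of R')).inv (f a))
    rw [GaPts.ptOfElt_comp]
    congr 1
    exact (congrArg (fun ψ => (ConcreteCategory.hom ψ) a)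
      (Scheme.ΓSpecIso_inv_naturality (CommRingCat.ofHom f.toRingHom))).symm

/-- Two group laws on an affine object with line points and the same unit agree. -/
theorem mul_eq_of_one_eq {G : Over (Spec (CommRingCat.of k))} [IsAffine G.left] [IsAffine (G ⊗ G).left]
    (L : LinePts G) (h₁ h₂ : GrpObj G) (e : h₁.one = h₂.one) : h₁.mul = h₂.mul := by
  have hunit : @LinePts.unit k _ G h₁ L = @LinePts.unit k _ G h₂ L := by
    change (L.pt k).symm (toUnit _ ≫ h₁.one) = (L.pt k).symm (toUnit _ ≫ h₂.one)
    rw [e]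
  let A := Γ((G ⊗ G).left, ⊤)
  let φ : CommRingCat.of k ⟶ A := (Scheme.ΓSpecIso (CommRingCat.of k)).inv ≫ (G ⊗ G).hom.appTop
  letI : Algebra k A := φ.hom.toAlgebra
  have hw : (G ⊗ G).left.toSpecΓ ≫ Spec.map φ = (G ⊗ G).hom := by
    rw [Spec.map_comp, ← Scheme.toSpecΓ_naturality_assoc, ← Scheme.isoSpec_Spec_inv,
      Scheme.toSpecΓ_isoSpec_inv, Category.comp_id]
  let g : G ⊗ G ⟶ U (k := k) A := Over.homMk (G ⊗ G).left.toSpecΓ hw
  haveI : IsIso g.left := inferInstanceAs (IsIso (G ⊗ G).left.toSpecΓ)
  haveI : IsIso g := by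
    haveI : IsIso ((Over.forget _).map g) := ‹IsIso g.left›
    exact isIso_of_reflects_iso g (Over.forget _)
  rw [← cancel_epi (inv g)]
  obtain ⟨a, ha⟩ := (L.pt A).surjective (inv g ≫ fst G G)
  obtain ⟨b, hb⟩ := (L.pt A).surjective (inv g ≫ snd G G)
  have key : inv g = lift (L.pt A a) (L.pt A b) := by
    apply CartesianMonoidalCategory.hom_ext
    · rw [lift_fst, ha]
    · rw [lift_snd, hb]
  rw [key]
  have h1 := @LinePts.op_eq k _ G h₁ L A _ _ a b
  have h2 := @LinePts.op_eq k _ G h₂ L A _ _ a b
  rw [hunit, ← h2] at h1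
  exact (L.pt A).symm.injective h1

end Groth.L15.GaLaw
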