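import Groth.Agent.L15.GaLaw.Sch
import Groth.Prelude.Def_Red2
import Groth.Prelude.Def_GmPts
import Mathlib.Algebra.Polynomial.Laurent
import Mathlib.RingTheory.Polynomial.Basic
import Mathlib.RingTheory.Prime

/-! Group laws on the punctured line over a field are determined by their unit. -/

universe u

open CategoryTheory MonoidalCategory CartesianMonoidalCategory MonObj GrpObj AlgebraicGeometry

noncomputable section

namespace Groth.L15.GaLaw

open LaurentPolynomial in
/-- Units of Laurent polynomials over a domain are monomials. -/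
theorem exists_eq_C_mul_T {D : Type u} [CommRing D] [IsDomain D] (v : (D[T;T⁻¹])ˣ) :
    ∃ (w : Dˣ) (n : ℤ), (v : D[T;T⁻¹]) = C (w : D) * T n := by
  obtain ⟨a, f, hf⟩ := exists_T_pow (v : D[T;T⁻¹])
  obtain ⟨b, g, hg⟩ := exists_T_pow ((v⁻¹ : (D[T;T⁻¹])ˣ) : D[T;T⁻¹])
  have hfg : f * g = Polynomial.X ^ (a + b) := Polynomial.toLaurent_injective (by
    rw [map_mul, hf, hg, Polynomial.toLaurent_X_pow, Nat.cast_add, T_add]
    calc (v : D[T;T⁻¹]) * T a * (((v⁻¹ : (D[T;T⁻¹])ˣ) : D[T;T⁻¹]) * T b)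
        = ((v : D[T;T⁻¹]) * ((v⁻¹ : (D[T;T⁻¹])ˣ) : D[T;T⁻¹])) * (T a * T b) := by ring
      _ = _ := by rw [Units.mul_inv, _root_.one_mul])
  obtain ⟨i, -, hi⟩ := (dvd_prime_pow Polynomial.prime_X (a + b)).1 (Dvd.intro g hfg)
  obtain ⟨e, he⟩ := hi.symm
  obtain ⟨w, hw, hwe⟩ := Polynomial.isUnit_iff.1 e.isUnit
  refine ⟨hw.unit, (i : ℤ) - a, ?_⟩
  rw [← he, map_mul, Polynomial.toLaurent_X_pow, ← hwe, Polynomial.toLaurent_C] at hf
  have h : (v : D[T;T⁻¹]) = (v : D[T;T⁻¹]) * T a * T (-(a : ℤ)) := by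
    rw [mul_T_assoc, add_neg_cancel, T_zero, _root_.mul_one]
  rw [h, ← hf, IsUnit.unit_spec, T_mul, mul_T_assoc, sub_eq_add_neg]

variable {k : Type u} [Field k]

/-- An object whose points over affine schemes are the units of the algebras. -/
structure UnitPts (G : Over (Spec (CommRingCat.of k))) where
  pt : ∀ (R : Type u) [CommRing R] [Algebra k R], Rˣ ≃ (U (k := k) R ⟶ G)
  pt_natural : ∀ {R R' : Type u} [CommRing R] [Algebra k R] [CommRing R'] [Algebra k R']
    (f : R →ₐ[k] R') (a : Rˣ), Um f ≫ pt R a = pt R' (Units.map (f : R →* R') a)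

variable {G : Over (Spec (CommRingCat.of k))} [GrpObj G] (L : UnitPts G)

/-- The law on units. -/
def UnitPts.op (R : Type u) [CommRing R] [Algebra k R] (a b : Rˣ) : Rˣ :=
  (L.pt R).symm (L.pt R a * L.pt R b)

/-- The unit of the law. -/
def UnitPts.unit : kˣ := (L.pt k).symm 1

lemma UnitPts.pt_op (R : Type u) [CommRing R] [Algebra k R] (a b : Rˣ) :
    L.pt R (L.op R a b) = L.pt R a * L.pt R b := Equiv.apply_symm_apply _ _

lemma UnitPts.map_op {R R' : Type u} [CommRing R] [Algebra k R] [CommRing R'] [Algebra k R']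
    (f : R →ₐ[k] R') (a b : Rˣ) :
    Units.map (f : R →* R') (L.op R a b) =
      L.op R' (Units.map (f : R →* R') a) (Units.map (f : R →* R') b) := by
  apply (L.pt R').injective
  rw [← L.pt_natural, L.pt_op, L.pt_op, ← L.pt_natural, ← L.pt_natural, Hom.mul_def, Hom.mul_def,
    comp_lift_assoc]

lemma UnitPts.pt_unit (R : Type u) [CommRing R] [Algebra k R] :
    L.pt R (Units.map (Algebra.ofId k R : k →* R) L.unit) = 1 := by
  rw [← L.pt_natural, UnitPts.unit, Equiv.apply_symm_apply, Hom.one_def, Hom.one_def,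
    ← Category.assoc, toUnit_unique (Um _ ≫ toUnit _) (toUnit _)]

open LaurentPolynomial in
theorem UnitPts.op_eq (R : Type u) [CommRing R] [Algebra k R] (a b : Rˣ) :
    L.op R a b * Units.map (Algebra.ofId k R : k →* R) L.unit = a * b := by
  let B := (k[T;T⁻¹])[T;T⁻¹]
  let x : Bˣ := (isUnit_T (R := k[T;T⁻¹]) 1).unit
  let y : Bˣ := Units.map (C (R := k[T;T⁻¹]) : k[T;T⁻¹] →* B) (isUnit_T (R := k) 1).unit
  obtain ⟨v, i, hv⟩ := exists_eq_C_mul_T (L.op B x y)
  obtain ⟨w, j, hw⟩ := exists_eq_C_mul_T v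
  have hF : ∀ (S : Type u) [CommRing S] [Algebra k S] (s t : Sˣ),
      L.op S s t = Units.map (Algebra.ofId k S : k →* S) w * t ^ j * s ^ i := by
    intro S _ _ s t
    let ψ : B →ₐ[k] S :=
      { LaurentPolynomial.eval₂ (LaurentPolynomial.eval₂ (algebraMap k S) t) s with
        commutes' := fun r => by
          change LaurentPolynomial.eval₂ (LaurentPolynomial.eval₂ (algebraMap k S) t) s (C (C r)) = _
          rw [eval₂_C, eval₂_C] }
    have hψ : ∀ z, ψ z = LaurentPolynomial.eval₂ (LaurentPolynomial.eval₂ (algebraMap k S) t) s z :=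
      fun _ => rfl
    have hx : Units.map (ψ : B →* S) x = s := Units.ext (by
      change ψ (T 1 : B) = s
      rw [hψ, eval₂_T, zpow_one])
    have hy : Units.map (ψ : B →* S) y = t := Units.ext (by
      change ψ (C (T 1 : k[T;T⁻¹]) : B) = t
      rw [hψ, eval₂_C, eval₂_T, zpow_one])
    have h := L.map_op ψ x y
    rw [hx, hy] at h
    rw [← h]
    refine Units.ext ?_
    change ψ ((L.op B x y : Bˣ) : B) = _
    rw [hv, hw, hψ, eval₂_C_mul_T, eval₂_C_mul_T, Units.val_mul, Units.val_mul]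
    rfl
  have el : ∀ (S : Type u) [CommRing S] [Algebra k S] (s : Sˣ),
      L.op S (Units.map (Algebra.ofId k S : k →* S) L.unit) s = s := by
    intro S _ _ s
    apply (L.pt S).injective
    rw [L.pt_op, L.pt_unit, _root_.one_mul]
  have er : ∀ (S : Type u) [CommRing S] [Algebra k S] (s : Sˣ),
      L.op S s (Units.map (Algebra.ofId k S : k →* S) L.unit) = s := by
    intro S _ _ s
    apply (L.pt S).injective
    rw [L.pt_op, L.pt_unit, _root_.mul_one]
  let z : (k[T;T⁻¹])ˣ := (isUnit_T (R := k) 1).unit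
  -- compare exponents
  have key : ∀ (m : ℤ) (q : kˣ), Units.map (Algebra.ofId k k[T;T⁻¹] : k →* k[T;T⁻¹]) q * z ^ m = z →
      m = 1 ∧ q = 1 := by
    intro m q h
    have hz : ∀ n : ℤ, ((z ^ n : (k[T;T⁻¹])ˣ) : k[T;T⁻¹]) = T n := by
      intro n
      have h1 := eval₂_T (f := (C : k →+* k[T;T⁻¹])) (x := z) n
      rw [← h1]
      have h2 : (LaurentPolynomial.eval₂ (C : k →+* k[T;T⁻¹]) z) = RingHom.id _ := by
        refine IsLocalization.ringHom_ext (Submonoid.powers (Polynomial.X : Polynomial k)) ?_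
        refine Polynomial.ringHom_ext (fun r => ?_) ?_
        · simp [algebraMap_eq_toLaurent]
        · simp [algebraMap_eq_toLaurent, z]
      rw [h2, RingHom.id_apply]
    have h' := congrArg (fun u : (k[T;T⁻¹])ˣ => (u : k[T;T⁻¹])) h
    simp only [Units.val_mul] at h'
    rw [hz] at h'
    change algebraMap k k[T;T⁻¹] (q : k) * T m = T 1 at h'
    rw [← C_eq_algebraMap] at h'
    have hm := congrArg LaurentPolynomial.degree h'
    rw [degree_C_mul_T m _ q.ne_zero, degree_T] at hm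
    have hm' : m = 1 := WithBot.coe_injective hm
    subst hm'
    refine ⟨rfl, Units.ext ?_⟩
    have h3 := congrArg (fun p : k[T;T⁻¹] => p * T (-1)) h'
    simp only [mul_T_assoc, ← T_add, add_neg_cancel, T_zero, _root_.mul_one] at h3
    rw [← map_one C] at h3
    have h4 := congrArg (fun p : k[T;T⁻¹] => LaurentPolynomial.eval₂ (RingHom.id k) 1 p) h3
    simpa using h4
  have h1 := (hF k[T;T⁻¹] z _).symm.trans (er k[T;T⁻¹] z)
  rw [← map_zpow, ← map_mul] at h1
  obtain ⟨hi, hwc⟩ := key _ _ h1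
  have h2 := (hF k[T;T⁻¹] _ z).symm.trans (el k[T;T⁻¹] z)
  rw [hi, zpow_one, mul_right_comm, ← map_mul] at h2
  obtain ⟨hj, hwc'⟩ := key _ _ h2
  rw [hF R a b, hi, hj, zpow_one, zpow_one]
  have : Units.map (Algebra.ofId k R : k →* R) w * Units.map (Algebra.ofId k R : k →* R) L.unit = 1 := by
    rw [← map_mul, hwc', map_one]
  calc Units.map (Algebra.ofId k R : k →* R) w * b * a * Units.map (Algebra.ofId k R : k →* R) L.unit
      = (Units.map (Algebra.ofId k R : k →* R) w * Units.map (Algebra.ofId k R : k →* R) L.unit)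
          * (a * b) := by
        simp only [_root_.mul_assoc, mul_comm, mul_left_comm]
    _ = a * b := by rw [this, _root_.one_mul]

/-- Units of global functions are points of `Gm`. -/
def gmEquiv {S : Scheme.{u}} (T : Over S) : (Γ(T.left, ⊤))ˣ ≃ (T ⟶ Red.Gm S) where
  toFun v := GmPts.ptOfUnit v
  invFun t := GmPts.unitOfPt t
  left_inv v := GmPts.unitOfPt_ptOfUnit v
  right_inv t := GmPts.ptOfUnit_unitOfPt t

/-- The points of the multiplicative group. -/
def unitPts : UnitPts (Red.Gm (Spec (CommRingCat.of k))) where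
  pt R := (Units.mapEquiv (Scheme.ΓSpecIso (CommRingCat.of R)).commRingCatIsoToRingEquiv.symm.toMulEquiv).toEquiv.trans
    (gmEquiv (U (k := k) R))
  pt_natural := by
    intro R R' _ _ _ _ f a
    change Um f ≫ GmPts.ptOfUnit (T := U (k := k) R) _ = GmPts.ptOfUnit (T := U (k := k) R') _
    refine (GmPts.ptOfUnit_unitOfPt _).symm.trans (congrArg GmPts.ptOfUnit ?_)
    rw [GmPts.unitOfPt_comp, GmPts.unitOfPt_ptOfUnit]
    refine Units.ext ?_
    exact (congrArg (fun ψ => (ConcreteCategory.hom ψ) (a : R))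
      (Scheme.ΓSpecIso_inv_naturality (CommRingCat.ofHom f.toRingHom))).symm

/-- Two group laws on an affine object agree if they agree on affine points. -/
theorem mul_eq_of_pts {G : Over (Spec (CommRingCat.of k))} [IsAffine (G ⊗ G).left] {m₁ m₂ : G ⊗ G ⟶ G}
    (h : ∀ (A : Type u) [CommRing A] [Algebra k A] (t t' : U (k := k) A ⟶ G),
      lift t t' ≫ m₁ = lift t t' ≫ m₂) : m₁ = m₂ := by
  let A := Γ((G ⊗ G).left, ⊤)
  let φ : CommRingCat.of k ⟶ A := (Scheme.ΓSpecIso (CommRingCat.of k)).inv ≫ (G ⊗ G).hom.appTop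
  letI : Algebra k A := φ.hom.toAlgebra
  have hw : (G ⊗ G).left.toSpecΓ ≫ Spec.map φ = (G ⊗ G).hom := by
    rw [Spec.map_comp, ← Scheme.toSpecΓ_naturality_assoc, ← Scheme.isoSpec_Spec_inv,
      Scheme.toSpecΓ_isoSpec_inv, Category.comp_id]
  let g : G ⊗ G ⟶ U (k := k) A := Over.homMk (G ⊗ G).left.toSpecΓ hw
  haveI : IsIso g.left := inferInstanceAs (IsIso (G ⊗ G).left.toSpecΓ)
  haveI : IsIso g := by
    haveI : IsIso ((Over.forget _).map g) := ‹IsIso g.left›
    exact isIso_of_reflects_iso g (Over.forget _)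
  rw [← cancel_epi (inv g)]
  have key : inv g = lift (inv g ≫ fst G G) (inv g ≫ snd G G) := by
    apply CartesianMonoidalCategory.hom_ext <;> simp
  rw [key]
  exact h A _ _

theorem mul_eq_of_one_eq' {G : Over (Spec (CommRingCat.of k))} [IsAffine (G ⊗ G).left]
    (L : UnitPts G) (h₁ h₂ : GrpObj G) (e : h₁.one = h₂.one) : h₁.mul = h₂.mul := by
  have hunit : @UnitPts.unit k _ G h₁ L = @UnitPts.unit k _ G h₂ L := by
    change (L.pt k).symm (toUnit _ ≫ h₁.one) = (L.pt k).symm (toUnit _ ≫ h₂.one)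
    rw [e]
  refine mul_eq_of_pts fun A _ _ t t' => ?_
  have h1 := @UnitPts.op_eq k _ G h₁ L A _ _ ((L.pt A).symm t) ((L.pt A).symm t')
  have h2 := @UnitPts.op_eq k _ G h₂ L A _ _ ((L.pt A).symm t) ((L.pt A).symm t')
  rw [← hunit] at h2
  have h3 := mul_right_cancel (h1.trans h2.symm)
  have h4 := congrArg (L.pt A) h3
  rw [@UnitPts.pt_op k _ G h₁, @UnitPts.pt_op k _ G h₂, Equiv.apply_symm_apply,
    Equiv.apply_symm_apply] at h4
  exact h4

end Groth.L15.GaLaw
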