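import Mathlib.Algebra.Polynomial.AlgebraMap
import Mathlib.Algebra.Polynomial.Degree.Domain
import Mathlib.Algebra.MvPolynomial.Eval
import Mathlib.RingTheory.MvPolynomial.Basic
import Mathlib.Algebra.MvPolynomial.CommRing
import Mathlib.RingTheory.Algebraic.MvPolynomial
import Mathlib.Tactic.Ring
import Mathlib.Tactic.LinearCombination
import Mathlib.Tactic.FieldSimp
import Mathlib.RingTheory.AdjoinRoot

/-! Polynomial group laws on the affine line are linear. -/

universe u

open Polynomial

namespace Groth.L15.GaLaw

variable {k : Type u} [Field k]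

/-- `F(a, b)` for `F ∈ k[Y][X]`. -/
noncomputable def ev (F : Polynomial (Polynomial k)) {R : Type u} [CommRing R] [Algebra k R] (a b : R) : R :=
  F.eval₂ (aeval b : Polynomial k →ₐ[k] R).toRingHom a

lemma map_ev (F : Polynomial (Polynomial k)) {R R' : Type u} [CommRing R] [Algebra k R] [CommRing R']
    [Algebra k R'] (f : R →ₐ[k] R') (a b : R) : f (ev F a b) = ev F (f a) (f b) := by
  have h := Polynomial.hom_eval₂ F (aeval b : Polynomial k →ₐ[k] R).toRingHom f.toRingHom a
  have h' : f.toRingHom.comp (aeval b : Polynomial k →ₐ[k] R).toRingHom =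
      (aeval (f b) : Polynomial k →ₐ[k] R').toRingHom :=
    RingHom.ext fun q => (aeval_algHom_apply f b q).symm
  rw [h'] at h
  exact h

lemma ev_X_C (F : Polynomial (Polynomial k)) {B : Type u} [CommRing B] [Algebra k B] (s : B) :
    ev F (X : Polynomial B) (C s) = F.map (aeval s : Polynomial k →ₐ[k] B).toRingHom := by
  rw [ev, Polynomial.map]
  congr 1
  exact RingHom.ext fun q => aeval_algHom_apply (CAlgHom (R := k) (A := B)) s q

lemma ev_C (F : Polynomial (Polynomial k)) {B : Type u} [CommRing B] [Algebra k B] (t : Polynomial B) (s : B) :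
    ev F t (C s) = (F.map (aeval s : Polynomial k →ₐ[k] B).toRingHom).comp t := by
  rw [Polynomial.comp, Polynomial.eval₂_map, ev]
  congr 1
  exact RingHom.ext fun q => aeval_algHom_apply (CAlgHom (R := k) (A := B)) s q

/-- Associativity forces degree at most one in the first variable. -/
theorem natDegree_le_one (F : Polynomial (Polynomial k))
    (hassoc : ∀ (R : Type u) [CommRing R] [Algebra k R] (a b c : R),
      ev F (ev F a b) c = ev F a (ev F b c)) : F.natDegree ≤ 1 := by
  let B := MvPolynomial (Fin 2) k
  let y : B := MvPolynomial.X 0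
  let z : B := MvPolynomial.X 1
  have h := hassoc (Polynomial B) X (C y) (C z)
  rw [ev_X_C, ev_C, show ev F (C y) (C z) = C (ev F y z) from
    (map_ev F (CAlgHom (R := k) (A := B)) y z).symm, ev_X_C] at h
  have hinj : ∀ i : Fin 2,
      Function.Injective (aeval (MvPolynomial.X i : B) : Polynomial k →ₐ[k] B).toRingHom := fun i =>
    transcendental_iff_injective.1 (MvPolynomial.transcendental_X k i)
  have h2 := congrArg natDegree h
  rw [natDegree_comp, natDegree_map_eq_of_injective (hinj 1), natDegree_map_eq_of_injective (hinj 0)] at h2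
  have h3 := natDegree_map_le (f := (aeval (ev F y z) : Polynomial k →ₐ[k] B).toRingHom) (p := F)
  rw [← h2] at h3
  by_contra hc
  have : 2 * F.natDegree ≤ F.natDegree * F.natDegree := Nat.mul_le_mul_right _ (by omega)
  omega

/-- A polynomial group law with unit `c` is `a + b - c`. -/
theorem ev_eq (F : Polynomial (Polynomial k)) (c : k)
    (hl : ∀ (R : Type u) [CommRing R] [Algebra k R] (a : R), ev F (algebraMap k R c) a = a)
    (hr : ∀ (R : Type u) [CommRing R] [Algebra k R] (a : R), ev F a (algebraMap k R c) = a)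
    (hassoc : ∀ (R : Type u) [CommRing R] [Algebra k R] (a b d : R),
      ev F (ev F a b) d = ev F a (ev F b d))
    (hinv : ∀ a : k, ∃ v : k, ev F a v = c)
    (R : Type u) [CommRing R] [Algebra k R] (a b : R) :
    ev F a b = a + b - algebraMap k R c := by
  -- the opposite law
  let G : Polynomial (Polynomial k) := ev F (C X) X
  have hG : ∀ (S : Type u) [CommRing S] [Algebra k S] (x y : S), ev G x y = ev F y x := by
    intro S _ _ x y
    let ψ : Polynomial (Polynomial k) →ₐ[k] S :=
      { eval₂RingHom (aeval y : Polynomial k →ₐ[k] S).toRingHom x with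
        commutes' := fun r => by
          simp [Polynomial.algebraMap_apply] }
    have h1 : ev G x y = ψ G := rfl
    rw [h1, map_ev F ψ]
    congr 1
    · change Polynomial.eval₂ _ x (C X) = y
      rw [eval₂_C]
      exact aeval_X y
    · change Polynomial.eval₂ _ x X = x
      rw [eval₂_X]
  have dF := natDegree_le_one F hassoc
  have dG := natDegree_le_one G fun S _ _ x y z => by simp only [hG]; exact (hassoc S z y x).symm
  obtain ⟨p1, p0, hp⟩ : ∃ p1 p0 : Polynomial k, ∀ (S : Type u) [CommRing S] [Algebra k S] (x y : S),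
      ev F x y = aeval y p1 * x + aeval y p0 := by
    refine ⟨F.coeff 1, F.coeff 0, fun S _ _ x y => ?_⟩
    conv_lhs => rw [ev, eq_X_add_C_of_natDegree_le_one dF]
    simp
  obtain ⟨q1, q0, hq⟩ : ∃ q1 q0 : Polynomial k, ∀ (S : Type u) [CommRing S] [Algebra k S] (x y : S),
      ev F x y = aeval x q1 * y + aeval x q0 := by
    refine ⟨G.coeff 1, G.coeff 0, fun S _ _ x y => ?_⟩
    rw [← hG S y x]
    conv_lhs => rw [ev, eq_X_add_C_of_natDegree_le_one dG]
    simp
  obtain ⟨d, hd⟩ : ∃ d : k, ∀ (S : Type u) [CommRing S] [Algebra k S] (x y : S),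
      ev F x y = x + y - algebraMap k S c
        + algebraMap k S d * (x - algebraMap k S c) * (y - algebraMap k S c) := by
    refine ⟨aeval (c + 1) q1 - 1, fun S _ _ x y => ?_⟩
    have e1 : ∀ t : S, aeval t p1 * algebraMap k S c + aeval t p0 = t :=
      fun t => by rw [← hp, hl]
    have e2 : ∀ t : S, aeval t q1 * algebraMap k S c + aeval t q0 = t :=
      fun t => by rw [← hq, hr]
    have e3 := (hp S (algebraMap k S (c + 1)) y).symm.trans (hq S (algebraMap k S (c + 1)) y)
    have e4 : aeval (algebraMap k S (c + 1)) q1 = algebraMap k S (aeval (c + 1) q1) :=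
      aeval_algebraMap_apply_eq_algebraMap_eval (c + 1) q1 |>.trans (by simp)
    have e5 := e2 (algebraMap k S (c + 1))
    rw [hp S x y]
    simp only [map_add, map_one, map_sub] at e3 e4 e5 ⊢
    rw [e4] at e3 e5
    linear_combination (x - algebraMap k S c) * e3 - (x - algebraMap k S c - 1) * e1 y
      + (x - algebraMap k S c) * e5
  have hd0 : d = 0 := by
    by_contra hne
    obtain ⟨v, hv⟩ := hinv (c - d⁻¹)
    rw [hd k] at hv
    simp only [Algebra.algebraMap_self, RingHom.id_apply] at hv
    have : d⁻¹ = 0 := by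
      have e : d * d⁻¹ = 1 := mul_inv_cancel₀ hne
      linear_combination -hv - (v - c) * e
    exact inv_ne_zero hne this
  rw [hd R, hd0, map_zero]
  ring

end Groth.L15.GaLaw
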